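import Mathlib
import Groth.Prelude.Def_W4c1hilbchowincPtFun
import Groth.Agent.H73.PtFunSpec
import Groth.Agent.S0549

/-!
# Varying along complete DVRs implies varying along all DVRs
-/

set_option autoImplicit false
universe u
open CategoryTheory AlgebraicGeometry W4c1hilbchowinc

namespace Groth.Agent.H13.SN

open Groth.Agent.H73.PtFunSpec

theorem variesAlongDVR_of_complete {X : Scheme.{u}} (f : PtFun X)
    (hf : f.VariesAlongCompleteDVR) : f.VariesAlongDVR := by
  intro R _ _ _ g
  obtain ⟨hdom, hdvr⟩ := (Groth.Agent.S0549.result R).mp ⟨inferInstance, inferInstance⟩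
  have hιinj : Function.Injective
      (algebraMap R (AdicCompletion (IsLocalRing.maximalIdeal R) R)) :=
    AdicCompletion.of_injective (IsLocalRing.maximalIdeal R) R
  obtain ⟨σh, hσh⟩ := hf (AdicCompletion (IsLocalRing.maximalIdeal R) R)
    (Spec.map (CommRingCat.ofHom (algebraMap R (AdicCompletion (IsLocalRing.maximalIdeal R) R)))
      ≫ g)
  obtain ⟨rh, hrh⟩ : ∃ rh : AdicCompletion (IsLocalRing.maximalIdeal R) R,
      rh = (Scheme.ΓSpecIso (CommRingCat.of (AdicCompletion (IsLocalRing.maximalIdeal R) R))).hom σh :=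
    ⟨_, rfl⟩
  obtain ⟨ι, hι⟩ : ∃ ι : R →+* AdicCompletion (IsLocalRing.maximalIdeal R) R,
      ι = algebraMap R (AdicCompletion (IsLocalRing.maximalIdeal R) R) := ⟨_, rfl⟩
  rw [← hι] at hιinj hσh
  have hloc : IsLocalHom ι := by rw [hι]; infer_instance
  have key : ∀ (xh : ↥(Spec (CommRingCat.of (AdicCompletion (IsLocalRing.maximalIdeal R) R))))
      (b s : R),
      (f.pullback g) ((Spec.map (CommRingCat.ofHom ι)) xh) *
        ev R ((Spec.map (CommRingCat.ofHom ι)) xh) s =
        ev R ((Spec.map (CommRingCat.ofHom ι)) xh) b →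
      rh * ι s - ι b ∈ PrimeSpectrum.asIdeal xh := by
    intro xh b s hrel
    have h1 : (Spec (CommRingCat.of (AdicCompletion (IsLocalRing.maximalIdeal R) R))).Γevaluation
        xh σh = (f.pullback (Spec.map (CommRingCat.ofHom ι) ≫ g)) xh := congrFun hσh xh
    have h2 : (f.pullback (Spec.map (CommRingCat.ofHom ι) ≫ g)) xh =
        (Spec.map (CommRingCat.ofHom ι)).residueFieldMap xh
          ((f.pullback g) ((Spec.map (CommRingCat.ofHom ι)) xh)) := by
      change (Spec.map (CommRingCat.ofHom ι) ≫ g).residueFieldMap xh _ = _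
      rw [Scheme.residueFieldMap_comp]
      rfl
    have h3 := congrArg ((Spec.map (CommRingCat.ofHom ι)).residueFieldMap xh) hrel
    rw [map_mul, residueFieldMap_ev, residueFieldMap_ev, ← h2, ← h1, ← ev_ΓSpecIso_hom,
      ← hrh] at h3
    rw [← ev_eq_zero_iff (A := AdicCompletion (IsLocalRing.maximalIdeal R) R) xh, map_sub,
      map_mul, h3, sub_self]
  -- the element `r`
  have hr : ∃ r : R, ι r = rh := by
    let xh₁ : ↥(Spec (CommRingCat.of (AdicCompletion (IsLocalRing.maximalIdeal R) R))) :=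
      (⟨⊥, Ideal.isPrime_bot⟩ : PrimeSpectrum (AdicCompletion (IsLocalRing.maximalIdeal R) R))
    obtain ⟨b1, s1, hs1, hrel1⟩ := exists_ev_mul_eq ((Spec.map (CommRingCat.ofHom ι)) xh₁)
      ((f.pullback g) ((Spec.map (CommRingCat.ofHom ι)) xh₁))
    have hk := key xh₁ b1 s1 hrel1
    have hk' : rh * ι s1 = ι b1 := by
      have : rh * ι s1 - ι b1 ∈ (⊥ : Ideal (AdicCompletion (IsLocalRing.maximalIdeal R) R)) := hk
      exact sub_eq_zero.mp ((Submodule.mem_bot _).mp this)
    have hs1' : ι s1 ≠ 0 := by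
      intro h0
      apply hs1
      change ι s1 ∈ (⊥ : Ideal (AdicCompletion (IsLocalRing.maximalIdeal R) R))
      rw [h0]
      exact Submodule.zero_mem _
    have hdiv : s1 ∣ b1 := by
      rcases ValuationRing.dvd_total s1 b1 with h | h
      · exact h
      · obtain ⟨t, ht⟩ := h
        have hb1 : ι b1 ≠ 0 := by
          intro h0
          apply hs1'
          rw [ht, map_mul, h0, zero_mul]
        have h4 : ι b1 * (rh * ι t) = ι b1 * 1 := by
          rw [mul_one]
          calc ι b1 * (rh * ι t) = rh * (ι b1 * ι t) := by ring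
            _ = rh * ι s1 := by rw [← map_mul, ← ht]
            _ = ι b1 := hk'
        have h5 : rh * ι t = 1 := mul_left_cancel₀ hb1 h4
        have h6 : IsUnit (ι t) := IsUnit.of_mul_eq_one _ (by rw [mul_comm]; exact h5)
        have h7 : IsUnit t := hloc.map_nonunit t h6
        obtain ⟨v, hv⟩ := h7
        refine ⟨(↑v⁻¹ : R), ?_⟩
        rw [ht, ← hv, mul_assoc, Units.mul_inv, mul_one]
    obtain ⟨r, hr⟩ := hdiv
    refine ⟨r, ?_⟩
    have h8 : ι s1 * ι r = ι s1 * rh := by
      rw [← map_mul, ← hr, ← hk', mul_comm]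
    exact mul_left_cancel₀ hs1' h8
  obtain ⟨r, hr⟩ := hr
  -- surjectivity of `Spec Rh → Spec R`
  have hsurj : ∀ x : ↥(Spec (CommRingCat.of R)), ∃ xh, (Spec.map (CommRingCat.ofHom ι)) xh = x := by
    intro x
    by_cases hx : PrimeSpectrum.asIdeal x = ⊥
    · refine ⟨(⟨⊥, Ideal.isPrime_bot⟩ :
        PrimeSpectrum (AdicCompletion (IsLocalRing.maximalIdeal R) R)), ?_⟩
      apply PrimeSpectrum.ext
      change Ideal.comap ι ⊥ = _
      rw [hx, ← RingHom.ker_eq_comap_bot]
      exact (RingHom.injective_iff_ker_eq_bot ι).mp hιinj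
    · refine ⟨IsLocalRing.closedPoint (AdicCompletion (IsLocalRing.maximalIdeal R) R), ?_⟩
      have h1 : PrimeSpectrum.comap ι
          (IsLocalRing.closedPoint (AdicCompletion (IsLocalRing.maximalIdeal R) R)) =
          IsLocalRing.closedPoint R := IsLocalRing.comap_closedPoint ι
      have h2 : x = IsLocalRing.closedPoint R := by
        apply PrimeSpectrum.ext
        have hmax : (PrimeSpectrum.asIdeal x).IsMaximal :=
          Ring.DimensionLEOne.maximalOfPrime hx (PrimeSpectrum.isPrime x)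
        exact IsLocalRing.eq_maximalIdeal hmax
      rw [h2]
      exact h1
  refine ⟨(Scheme.ΓSpecIso (CommRingCat.of R)).inv r, ?_⟩
  funext x
  rw [ofSection_inv]
  obtain ⟨xh, rfl⟩ := hsurj x
  obtain ⟨b, s, hs, hrel⟩ := exists_ev_mul_eq ((Spec.map (CommRingCat.ofHom ι)) xh)
    ((f.pullback g) ((Spec.map (CommRingCat.ofHom ι)) xh))
  have hk := key xh b s hrel
  rw [← hr, ← map_mul, ← map_sub] at hk
  have hk2 : r * s - b ∈ PrimeSpectrum.asIdeal ((Spec.map (CommRingCat.ofHom ι)) xh) := hk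
  rw [← ev_eq_zero_iff (A := R), map_sub, map_mul, sub_eq_zero] at hk2
  have hs0 : ev R ((Spec.map (CommRingCat.ofHom ι)) xh) s ≠ 0 :=
    fun h => hs ((ev_eq_zero_iff _ s).mp h)
  exact mul_right_cancel₀ hs0 (hk2.trans hrel.symm)

end Groth.Agent.H13.SN
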