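import Mathlib

/-!
# Subintegrality of `A[β]` when `β` has prescribed residues
-/

set_option autoImplicit false
universe u

namespace Groth.Agent.H13.SN

/-- (SUB) if `β s - b` lies in every prime of `C = A[β]` over `p` (with `s ∉ p`), then every
element of `C` is, up to a factor outside `p`, congruent to an element of `A` modulo every prime
over `p`. -/
theorem exists_of_adjoin {A C : Type u} [CommRing A] [CommRing C] [Algebra A C] (β : C)
    (hgen : Algebra.adjoin A {β} = ⊤) (p : PrimeSpectrum A) (b s : A) (hs : s ∉ p.asIdeal)
    (h : ∀ q : PrimeSpectrum C, PrimeSpectrum.comap (algebraMap A C) q = p →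
      β * algebraMap A C s - algebraMap A C b ∈ q.asIdeal) (c : C) :
    ∃ u a : A, u ∉ p.asIdeal ∧ ∀ q : PrimeSpectrum C,
      PrimeSpectrum.comap (algebraMap A C) q = p →
        algebraMap A C u * c - algebraMap A C a ∈ q.asIdeal := by
  have hc : c ∈ Algebra.adjoin A {β} := by rw [hgen]; exact Algebra.mem_top
  induction hc using Algebra.adjoin_induction with
  | mem x hx =>
    rw [Set.mem_singleton_iff] at hx
    subst hx
    refine ⟨s, b, hs, fun q hq => ?_⟩
    have := h q hq
    rwa [mul_comm] at this
  | algebraMap r =>
    refine ⟨1, r, (Ideal.ne_top_iff_one _).mp p.2.ne_top, fun q _ => ?_⟩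
    simp
  | add x y _ _ hx hy =>
    obtain ⟨u, a, hu, hua⟩ := hx
    obtain ⟨u', a', hu', hua'⟩ := hy
    refine ⟨u * u', u' * a + u * a', fun hmem => ?_, fun q hq => ?_⟩
    · rcases p.2.mem_or_mem hmem with h1 | h1
      · exact hu h1
      · exact hu' h1
    · have e : algebraMap A C (u * u') * (x + y) - algebraMap A C (u' * a + u * a') =
          algebraMap A C u' * (algebraMap A C u * x - algebraMap A C a) +
            algebraMap A C u * (algebraMap A C u' * y - algebraMap A C a') := by
        simp only [map_mul, map_add]; ring
      rw [e]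
      exact q.asIdeal.add_mem (q.asIdeal.mul_mem_left _ (hua q hq))
        (q.asIdeal.mul_mem_left _ (hua' q hq))
  | mul x y _ _ hx hy =>
    obtain ⟨u, a, hu, hua⟩ := hx
    obtain ⟨u', a', hu', hua'⟩ := hy
    refine ⟨u * u', a * a', fun hmem => ?_, fun q hq => ?_⟩
    · rcases p.2.mem_or_mem hmem with h1 | h1
      · exact hu h1
      · exact hu' h1
    · have e : algebraMap A C (u * u') * (x * y) - algebraMap A C (a * a') =
          (algebraMap A C u * x) * (algebraMap A C u' * y - algebraMap A C a') +
            algebraMap A C a' * (algebraMap A C u * x - algebraMap A C a) := by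
        simp only [map_mul]; ring
      rw [e]
      exact q.asIdeal.add_mem (q.asIdeal.mul_mem_left _ (hua' q hq))
        (q.asIdeal.mul_mem_left _ (hua q hq))

end Groth.Agent.H13.SN
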