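import Mathlib
import Groth.Prelude.Def_HTop2
import Groth.Prelude.Def_W4c1hilbchowincPtFun
import Groth.Agent.H73.PtFunSpec
import Groth.Agent.H13.SN.Sub
import Groth.Agent.H13.SN.CDVR
import Groth.Agent.H33.SN_NI
import Groth.Agent.H29.SN_PB
import Groth.Agent.H37.SN_T4Main

/-!
# Pointwise functions on a seminormal Noetherian ring with finite normalization (assembly)
-/

set_option autoImplicit false
universe u
open CategoryTheory AlgebraicGeometry W4c1hilbchowinc

namespace Groth.Agent.H13.SN


theorem isReduced_of_isSeminormalRing {A : Type u} [CommRing A] (hA : HTop.IsSeminormalRing A) :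
    IsReduced A := by
  have key : ∀ y : A, y ^ 2 = 0 → y = 0 := by
    intro y hy
    obtain ⟨a, ⟨ha2, ha3⟩, -⟩ := hA 0 y (by rw [hy]; ring)
    rw [ha3, pow_succ, ← ha2, zero_mul]
  constructor
  intro x hx
  obtain ⟨n, hn⟩ := hx
  induction n using Nat.strong_induction_on generalizing x with
  | _ n ih =>
    rcases Nat.lt_or_ge n 2 with h | h
    · interval_cases n
      · have h1 : (1 : A) = 0 := by simpa using hn
        calc x = x * 1 := by ring
          _ = 0 := by rw [h1, mul_zero]
      · simpa using hn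
    · -- x^n = 0 with n ≥ 2: (x^(n-1))^2 = 0 so x^(n-1) = 0
      have h1 : (x ^ (n - 1)) ^ 2 = 0 := by
        rw [← pow_mul]
        have : (n - 1) * 2 = n + (n - 2) := by omega
        rw [this, pow_add, hn, zero_mul]
      exact ih (n - 1) (by omega) x (key _ h1)

theorem adjoin_singleton_eq_top_of_eq {A B : Type u} [CommRing A] [CommRing B] [Algebra A B]
    (β : B) (C : Subalgebra A B) (hC : C = Algebra.adjoin A {β}) (hβC : β ∈ C) :
    Algebra.adjoin A {(⟨β, hβC⟩ : C)} = ⊤ := by
  rw [eq_top_iff]
  rintro ⟨x, hx⟩ -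
  have hx' : x ∈ Algebra.adjoin A {β} := hC ▸ hx
  have key : ∀ y (_ : y ∈ Algebra.adjoin A {β}), ∀ hy : y ∈ C,
      (⟨y, hy⟩ : C) ∈ Algebra.adjoin A {(⟨β, hβC⟩ : C)} := by
    intro y hy'
    induction hy' using Algebra.adjoin_induction with
    | mem z hz =>
      intro hy
      rw [Set.mem_singleton_iff] at hz
      subst hz
      exact Algebra.subset_adjoin (Set.mem_singleton _)
    | algebraMap r =>
      intro hy
      exact Subalgebra.algebraMap_mem _ r
    | add y z hy1 hz1 ihy ihz =>
      intro hyz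
      have hy : y ∈ C := hC ▸ hy1
      have hz : z ∈ C := hC ▸ hz1
      exact Subalgebra.add_mem _ (ihy hy) (ihz hz)
    | mul y z hy1 hz1 ihy ihz =>
      intro hyz
      have hy : y ∈ C := hC ▸ hy1
      have hz : z ∈ C := hC ▸ hz1
      exact Subalgebra.mul_mem _ (ihy hy) (ihz hz)
  exact key x hx' hx

theorem exists_section_of_rel_seminormal {A : Type u} [CommRing A] [IsNoetherianRing A]
    (hA : HTop.IsSeminormalRing A)
    (hfin : Module.Finite A (integralClosure A (FractionRing A)))
    (Rel : PrimeSpectrum A → A → A → Prop)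
    (R1 : ∀ p, ∃ b s, s ∉ p.asIdeal ∧ Rel p b s)
    (R2 : ∀ p b s b' s', Rel p b s → Rel p b' s' → s ∉ p.asIdeal → s' ∉ p.asIdeal →
      b * s' - b' * s ∈ p.asIdeal)
    (R3 : ∀ (R : Type u) [CommRing R] [IsDomain R] [IsDiscreteValuationRing R] (ψ : A →+* R),
      ∃ r : R, ∀ (x : PrimeSpectrum R) (b s : A), Rel (PrimeSpectrum.comap ψ x) b s →
        s ∉ (PrimeSpectrum.comap ψ x).asIdeal → r * ψ s - ψ b ∈ x.asIdeal) :
    ∃ a : A, ∀ p b s, Rel p b s → s ∉ p.asIdeal → a * s - b ∈ p.asIdeal := by
  have : IsReduced A := isReduced_of_isSeminormalRing hA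
  obtain ⟨hred, hnoeth, hic⟩ := Groth.Agent.H33.SN_NI.normalization_props A hfin
  obtain ⟨β, hβ⟩ := Groth.Agent.H29.SN_PB.exists_section_of_algebra (B := integralClosure A (FractionRing A)) Rel R1 R2 R3
  -- injectivity of `A → B`
  have hinjB : Function.Injective
      (algebraMap A (integralClosure A (FractionRing A))) := by
    intro x y hxy
    apply IsFractionRing.injective A (FractionRing A)
    have := congrArg (Subtype.val : integralClosure A (FractionRing A) → FractionRing A) hxy
    exact this
  -- existence of primes of `B` over primes of `A`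
  have hover : ∀ p : PrimeSpectrum A, ∃ Q : PrimeSpectrum (integralClosure A (FractionRing A)),
      PrimeSpectrum.comap (algebraMap A (integralClosure A (FractionRing A))) Q = p := by
    intro p
    have := p.2
    obtain ⟨Q, -, hQ1, hQ2⟩ := Ideal.exists_ideal_over_prime_of_isIntegral
      (S := integralClosure A (FractionRing A)) p.asIdeal (⊥ : Ideal _)
      (by
        rw [Ideal.comap_bot_of_injective _ hinjB]
        exact bot_le)
    exact ⟨⟨Q, hQ1⟩, PrimeSpectrum.ext hQ2⟩
  -- the subalgebra `C = A[β]`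
  obtain ⟨C, hC⟩ : ∃ C : Subalgebra A (integralClosure A (FractionRing A)),
      C = Algebra.adjoin A {β} := ⟨_, rfl⟩
  have hβC : β ∈ C := hC ▸ Algebra.subset_adjoin (Set.mem_singleton β)
  have : IsReduced C := isReduced_of_injective C.val Subtype.val_injective
  have : IsNoetherian A (integralClosure A (FractionRing A)) :=
    isNoetherian_of_isNoetherianRing_of_finite A _
  have : Module.Finite A C :=
    Module.Finite.of_fg (IsNoetherian.noetherian (Subalgebra.toSubmodule C))
  have hinjC : Function.Injective (algebraMap A C) := by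
    intro x y hxy
    apply hinjB
    exact congrArg (Subtype.val : C → integralClosure A (FractionRing A)) hxy
  have hgen : Algebra.adjoin A {(⟨β, hβC⟩ : C)} = ⊤ :=
    adjoin_singleton_eq_top_of_eq β C hC hβC
  have hsub : ∀ (p : PrimeSpectrum A) (c : C), ∃ u a : A, u ∉ p.asIdeal ∧
      ∀ q : PrimeSpectrum C, PrimeSpectrum.comap (algebraMap A C) q = p →
        algebraMap A C u * c - algebraMap A C a ∈ q.asIdeal := by
    intro p c
    obtain ⟨b, s, hs, hrel⟩ := R1 p
    refine exists_of_adjoin (⟨β, hβC⟩ : C) hgen p b s hs ?_ c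
    intro q hq
    -- a prime of `B` over `q`
    have := q.2
    have : Algebra.IsIntegral C (integralClosure A (FractionRing A)) :=
      Algebra.IsIntegral.tower_top (R := A)
    obtain ⟨Q, -, hQ1, hQ2⟩ := Ideal.exists_ideal_over_prime_of_isIntegral
      (S := integralClosure A (FractionRing A)) q.asIdeal (⊥ : Ideal _)
      (by
        rw [Ideal.comap_bot_of_injective _ (Subtype.val_injective : Function.Injective
          (algebraMap C (integralClosure A (FractionRing A))))]
        exact bot_le)
    have hQp : PrimeSpectrum.comap (algebraMap A (integralClosure A (FractionRing A)))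
        ⟨Q, hQ1⟩ = p := by
      rw [← hq]
      apply PrimeSpectrum.ext
      change Ideal.comap _ Q = Ideal.comap _ q.asIdeal
      rw [← hQ2, Ideal.comap_comap]
      rfl
    have h1 := hβ ⟨Q, hQ1⟩ b s (hQp ▸ hrel) (hQp ▸ hs)
    have h2 : ((⟨β, hβC⟩ : C) * algebraMap A C s - algebraMap A C b) ∈ Ideal.comap
        (algebraMap C (integralClosure A (FractionRing A))) Q := h1
    rw [hQ2] at h2
    exact h2
  obtain ⟨a, ha⟩ := Groth.Agent.H37.SN_T4.surjective_of_subintegral (A := A) (C := C) hinjC hA hsub ⟨β, hβC⟩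
  have haβ : algebraMap A (integralClosure A (FractionRing A)) a = β :=
    congrArg (Subtype.val : C → integralClosure A (FractionRing A)) ha
  refine ⟨a, fun p b s hrel hs => ?_⟩
  obtain ⟨Q, hQ⟩ := hover p
  have h1 := hβ Q b s (hQ ▸ hrel) (hQ ▸ hs)
  rw [← haβ, ← map_mul, ← map_sub] at h1
  have h2 : a * s - b ∈ (PrimeSpectrum.comap
      (algebraMap A (integralClosure A (FractionRing A))) Q).asIdeal := h1
  rwa [hQ] at h2

open Groth.Agent.H73.PtFunSpec in
/-- **S13109**. -/
theorem existsUnique_section_seminormal (A : Type u) [CommRing A] [IsNoetherianRing A]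
    (hA : HTop.IsSeminormalRing A)
    (hfin : Module.Finite A (integralClosure A (FractionRing A)))
    (f : PtFun (Spec (CommRingCat.of A))) (hf : f.VariesAlongCompleteDVR) :
    ∃! a : Γ(Spec (CommRingCat.of A), ⊤), PtFun.ofSection (Spec (CommRingCat.of A)) a = f := by
  have : IsReduced A := isReduced_of_isSeminormalRing hA
  have hf' : f.VariesAlongDVR := variesAlongDVR_of_complete f hf
  obtain ⟨a, ha⟩ := exists_section_of_rel_seminormal hA hfin (Rel f) (rel_R1 f)
    (fun p b s b' s' h h' _ _ => rel_R2 f p b s b' s' h h') (rel_R3 f hf')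
  refine ⟨(Scheme.ΓSpecIso (CommRingCat.of A)).inv a, ?_, ?_⟩
  · funext y
    rw [ofSection_inv]
    obtain ⟨b, s, hs, hrel⟩ := exists_ev_mul_eq y (f y)
    have h1 := ha y b s hrel hs
    rw [← ev_eq_zero_iff (A := A) y, map_sub, map_mul, sub_eq_zero] at h1
    have hs0 : ev A y s ≠ 0 := fun h => hs ((ev_eq_zero_iff y s).mp h)
    exact mul_right_cancel₀ hs0 (h1.trans hrel.symm)
  · intro a' ha'
    apply ofSection_injective
    rw [ha']
    funext y
    rw [ofSection_inv]
    obtain ⟨b, s, hs, hrel⟩ := exists_ev_mul_eq y (f y)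
    have h1 := ha y b s hrel hs
    rw [← ev_eq_zero_iff (A := A) y, map_sub, map_mul, sub_eq_zero] at h1
    have hs0 : ev A y s ≠ 0 := fun h => hs ((ev_eq_zero_iff y s).mp h)
    exact (mul_right_cancel₀ hs0 (h1.trans hrel.symm)).symm

end Groth.Agent.H13.SN
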